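import Groth.Agent.QuotAmpleLib.NormRel
import Groth.Agent.QuotLib.Props
import Groth.Agent.S2907
import Groth.Agent.S2925
import Groth.Prelude.Def_RelProj

/-!
# Quotients of quasi-projective schemes by finite groups
-/

set_option autoImplicit false
set_option linter.style.haveILetI false
set_option backward.isDefEq.respectTransparency false

universe u

open CategoryTheory CategoryTheory.Limits AlgebraicGeometry TopologicalSpace Opposite

noncomputable section

namespace Groth.Agent.QuotAmpleLib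

variable {X Y S : Scheme.{u}} {G : Type u} [Group G] [Finite G] {ρ : G →* Aut X} {p : X ⟶ Y}

theorem sect_res (hp : SGA1.IsQuot ρ p) {U V : Y.Opens} (i : V ⟶ U) (g : G) (s : Γ(X, p ⁻¹ᵁ U)) :
    (X.presheaf.map ((Opens.map p.base).map i).op).hom (QuotLib.sect hp U g s) =
      QuotLib.sect hp V g ((X.presheaf.map ((Opens.map p.base).map i).op).hom s) := by
  simp only [QuotLib.sect, ← CommRingCat.comp_apply, Scheme.Hom.map_appLE, Scheme.Hom.appLE_map]

/-- The product over the orbit of a function on an invariant open. -/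
def orbProd (hp : SGA1.IsQuot ρ p) (V : Y.Opens) : Γ(X, p ⁻¹ᵁ V) →* Γ(X, p ⁻¹ᵁ V) :=
  letI := Fintype.ofFinite G
  { toFun := fun s => ∏ g : G, QuotLib.sect hp V g s
    map_one' := by simp
    map_mul' := fun a b => by simp [Finset.prod_mul_distrib] }

theorem orbProd_mem_range (hp : SGA1.IsQuot ρ p) (V : Y.Opens) (s : Γ(X, p ⁻¹ᵁ V)) :
    orbProd hp V s ∈ Set.range (p.app V).hom := by
  letI := Fintype.ofFinite G
  refine (hp.range_iff V _).2 fun g => ?_
  show QuotLib.sect hp V g (∏ a : G, QuotLib.sect hp V a s) = ∏ a : G, QuotLib.sect hp V a s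
  rw [map_prod]
  exact (Fintype.prod_congr _ _ fun a => (QuotLib.sect_mul hp V a g s).symm).trans
    (Equiv.prod_comp (Equiv.mulRight g) fun a => QuotLib.sect hp V a s)

/-- The norm map on sections. -/
def normHom (hp : SGA1.IsQuot ρ p) (V : Y.Opens) : Γ(X, p ⁻¹ᵁ V) →* Γ(Y, V) where
  toFun s := (orbProd_mem_range hp V s).choose
  map_one' := hp.injective V (by rw [(orbProd_mem_range hp V 1).choose_spec, map_one, map_one])
  map_mul' a b := hp.injective V (by
    rw [(orbProd_mem_range hp V (a * b)).choose_spec, map_mul, map_mul, (orbProd_mem_range hp V a).choose_spec,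
      (orbProd_mem_range hp V b).choose_spec])

theorem app_normHom (hp : SGA1.IsQuot ρ p) (V : Y.Opens) (s : Γ(X, p ⁻¹ᵁ V)) :
    (p.app V).hom (normHom hp V s) = orbProd hp V s :=
  (orbProd_mem_range hp V s).choose_spec

/-- A quotient by a finite group has a norm. -/
def quotNorm (hp : SGA1.IsQuot ρ p) : Nrm.NormOfDegree p (Nat.card G) where
  one_le := Nat.card_pos
  norm := normHom hp
  norm_res {U V} i s := by
    refine hp.injective V ?_
    show (p.app V).hom ((Y.presheaf.map i.op).hom (normHom hp U s)) = _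
    rw [app_normHom, ← CommRingCat.comp_apply, p.naturality, CommRingCat.comp_apply, app_normHom]
    letI := Fintype.ofFinite G
    show (X.presheaf.map ((Opens.map p.base).map i).op).hom (∏ g : G, QuotLib.sect hp U g s) =
      ∏ g : G, QuotLib.sect hp V g _
    rw [map_prod]
    exact Fintype.prod_congr _ _ fun g => sect_res hp i g s
  norm_app U a := by
    refine hp.injective U ?_
    letI := Fintype.ofFinite G
    rw [app_normHom, map_pow]
    show ∏ g : G, QuotLib.sect hp U g _ = _
    rw [Finset.prod_eq_pow_card (f := fun g : G => QuotLib.sect hp U g ((p.app U).hom a)) (b := (p.app U).hom a)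
      fun g _ => (hp.range_iff U _).1 ⟨a, rfl⟩ g, Finset.card_univ, Nat.card_eq_fintype_card]
  norm_mem U s x hx hm := by
    letI := Fintype.ofFinite G
    classical
    by_contra hcon
    have h1 : p.base x ∈ Y.basicOpen (normHom hp U s) :=
      (Y.mem_basicOpen _ _ hx).2 (IsLocalRing.notMem_maximalIdeal.1 hcon)
    have h2 : x ∈ X.basicOpen (orbProd hp U s) := by
      rw [← app_normHom hp U s, ← Scheme.preimage_basicOpen]
      exact h1
    have e : orbProd hp U s = s * ∏ g ∈ Finset.univ.erase (1 : G), QuotLib.sect hp U g s := by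
      conv_rhs => enter [1]; rw [← QuotLib.sect_one hp U s]
      exact (Finset.mul_prod_erase Finset.univ (fun g => QuotLib.sect hp U g s) (Finset.mem_univ 1)).symm
    rw [e, Scheme.basicOpen_mul] at h2
    exact (IsLocalRing.mem_maximalIdeal _).1 hm ((X.mem_basicOpen _ _ hx).1 h2.1)

/-- Existence of a quasi-projective quotient. -/
theorem exists_isQuot_isQuasiProjective (f : X ⟶ S) [IsLocallyNoetherian S] (ρ : G →* Aut X)
    (hρ : ∀ σ : G, (ρ σ).hom ≫ f = f) (hf : RelProj.IsQuasiProjective f) :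
    ∃ (Y : Scheme.{u}) (q : X ⟶ Y) (h : Y ⟶ S), q ≫ h = f ∧ SGA1.IsQuot ρ q ∧ RelProj.IsQuasiProjective h := by
  obtain ⟨hlft, hqc, L, hL⟩ := hf
  haveI := hlft
  haveI := hqc
  have horb : ∀ x : X, ∃ U : X.Opens, IsAffineOpen U ∧ ∀ g : G, (ρ g).hom.base x ∈ U := fun x => by
    obtain ⟨_, ⟨V, hV, rfl⟩, hxV, -⟩ :=
      S.isBasis_affineOpens.exists_subset_of_mem_open (Set.mem_univ (f.base x)) isOpen_univ
    have hmem : ∀ g : G, (ρ g).hom.base x ∈ f ⁻¹ᵁ V := fun g => by
      show f.base ((ρ g).hom.base x) ∈ V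
      rw [← Scheme.Hom.comp_apply, hρ]
      exact hxV
    let Z : Set ↥(f ⁻¹ᵁ V : Scheme.{u}) := Set.range fun g : G => ⟨(ρ g).hom.base x, hmem g⟩
    obtain ⟨n, s, hZ, -, ha⟩ := AmpleEmb.exists_genLocus_finite (hL.2 ⟨V, hV⟩) (Set.finite_range _ : Z.Finite)
      (U := ⊤) (fun _ _ => trivial)
    exact ⟨(f ⁻¹ᵁ V).ι ''ᵁ CohB1.genLocus _ s, ha.image_of_isOpenImmersion _,
      fun g => ⟨⟨_, hmem g⟩, hZ ⟨g, rfl⟩, rfl⟩⟩
  obtain ⟨Y, q, hq⟩ := Groth.Agent.S2907.result ρ horb
  obtain ⟨h, hh, -⟩ := Groth.Agent.S2925.result ρ q hq S f hρ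
  subst hh
  haveI : IsFinite q := QuotLib.isFinite hq h
  haveI := QuotLib.quasiCompact hq h
  haveI := QuotLib.locallyOfFiniteType hq h
  obtain ⟨M, hM⟩ := exists_isRelAmple_of_norm (quotNorm hq) hL
  exact ⟨Y, q, h, rfl, hq, inferInstance, inferInstance, M, hM⟩

/-- Existence of a projective quotient. -/
theorem exists_isQuot_isProjective (f : X ⟶ S) [IsNoetherian S] (ρ : G →* Aut X)
    (hρ : ∀ σ : G, (ρ σ).hom ≫ f = f) (hqp : RelProj.IsQuasiProjective f) [IsProper f] :
    ∃ (Y : Scheme.{u}) (q : X ⟶ Y) (h : Y ⟶ S), q ≫ h = f ∧ SGA1.IsQuot ρ q ∧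
      RelProj.IsQuasiProjective h ∧ IsProper h := by
  obtain ⟨Y, q, h, e, hq, hp⟩ := exists_isQuot_isQuasiProjective f ρ hρ hqp
  subst e
  haveI : IsSeparated h := (QuotLib.isSeparated_iff hq h).1 inferInstance
  haveI : Surjective q := ⟨QuotLib.surjective hq⟩
  haveI : UniversallyClosed h := UniversallyClosed.of_comp_surjective q h
  haveI := hp.1
  haveI := hp.2.1
  exact ⟨Y, q, h, rfl, hq, hp, IsProper.mk⟩

end Groth.Agent.QuotAmpleLib
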