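import Groth.Agent.NormHomLib.Ample
import Groth.Agent.AmpleEmb.Compose
import Groth.Agent.AmpleLib.RelLocal

/-!
# Norms transport relative ampleness down
-/

set_option autoImplicit false
set_option linter.style.haveILetI false
set_option backward.isDefEq.respectTransparency false

universe u

open CategoryTheory CategoryTheory.Limits AlgebraicGeometry TopologicalSpace Opposite
open Groth.Agent.ParaFLib Groth.Agent.AmpleLib Groth.Agent.DCohLib Groth.Agent.AmpleEmb Groth.Agent.NormHomLib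

namespace Groth.Agent.QuotAmpleLib

/-- The locus of a section over an open, in terms of a local generator. -/
theorem image_genLocus_inf_eq_basicOpen {X : Scheme.{u}} {P : X.Modules} (hP : PicF.IsInvertible P) {U : X.Opens}
    (t : Coh.structureModule (U : Scheme.{u}) ⟶ P.restrict U.ι) {W : X.Opens} (hW : W ≤ U.ι ''ᵁ ⊤) {e : Γ(P, W)}
    (he : Gen W e) {a : Γ(X, W)} (ha : a • e = P.presheaf.map (homOfLE hW).op (sec t)) :
    U.ι ''ᵁ CohB1.genLocus _ t ⊓ W = X.basicOpen a := by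
  have key : ∀ (y : X) (hy : y ∈ W), y ∈ U.ι ''ᵁ CohB1.genLocus _ t ↔ y ∈ X.basicOpen a := fun y hy => by
    have e1 : X.presheaf.germ W y hy a • P.presheaf.germ W y hy e = P.presheaf.germ (U.ι ''ᵁ ⊤) y (hW hy) (sec t) := by
      have := congrArg (P.presheaf.germ W y hy) ha
      rwa [germ_smul', TopCat.Presheaf.germ_res_apply] at this
    rw [mem_image_genLocus_iff hP t (U.ι_image_top.le (hW hy))]
    erw [← e1]
    rw [bijective_smul_iff (he.bijective_germ y hy)]
    exact (X.mem_basicOpen a y hy).symm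
  ext y
  exact ⟨fun h => (key y h.2).1 h.1, fun h => ⟨(key y (X.basicOpen_le a h)).2 h, X.basicOpen_le a h⟩⟩

variable {X Y S : Scheme.{u}} {π : X ⟶ Y} {d : ℕ} {h : Y ⟶ S}

/-- Relative ampleness descends along a finite morphism with a norm. -/
theorem exists_isRelAmple_of_norm (N : Nrm.NormOfDegree π d) [IsFinite π] [QuasiCompact h] {L : X.Modules}
    (hL : RelAmple.IsRelAmple (π ≫ h) L) : ∃ M : Y.Modules, RelAmple.IsRelAmple h M := by
  classical
  haveI := surjective_of_norm N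
  have hLi : PicF.IsInvertible L := isInvertible_of_isRelAmple hL
  choose O s hyO hs using S1552.exists_frame π L hLi
  have hu : ∀ a b : Y, ∃ u : (Γ(X, π ⁻¹ᵁ (O a ⊓ O b)))ˣ,
      L.presheaf.map (homOfLE (π.preimage_mono (inf_le_left : O a ⊓ O b ≤ O a))).op (s a) =
        (u : Γ(X, π ⁻¹ᵁ (O a ⊓ O b))) • L.presheaf.map (homOfLE (π.preimage_mono (inf_le_right : O a ⊓ O b ≤ O b))).op (s b) := by
    intro a b
    obtain ⟨c, hc, hc'⟩ := ((hs a).res (π.preimage_mono (inf_le_left : O a ⊓ O b ≤ O a))).exists_unit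
      ((hs b).res (π.preimage_mono (inf_le_right : O a ⊓ O b ≤ O b)))
    exact ⟨hc.unit, hc'.symm⟩
  choose u hu using hu
  let η : ∀ a b : Y, (Γ(Y, O a ⊓ O b))ˣ := fun a b => Units.map (N.norm (O a ⊓ O b)) (u a b)
  have hres : ∀ a b (A : Y.Opens) (hA : A ≤ O a ⊓ O b),
      L.presheaf.map (homOfLE (π.preimage_mono (hA.trans inf_le_left))).op (s a) =
        X.presheaf.map (homOfLE (π.preimage_mono hA)).op (u a b : Γ(X, π ⁻¹ᵁ (O a ⊓ O b))) •
          L.presheaf.map (homOfLE (π.preimage_mono (hA.trans inf_le_right))).op (s b) := fun a b A hA => by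
    have := congrArg (L.presheaf.map (homOfLE (π.preimage_mono hA)).op) (hu a b)
    rwa [L.map_smul, ParaFLib.res_res, ParaFLib.res_res] at this
  have hcoc : IsCocycle O η := by
    intro a b c
    simp only [η, Units.coe_map]
    rw [norm_res' N, norm_res' N, norm_res' N, ← map_mul]
    refine congrArg _ (((hs c).res (π.preimage_mono inf_le_right)) _ le_rfl |>.1 ?_)
    show _ • _ = _ • _
    simp only [ParaFLib.res_res]
    have e1 := hres a c (O a ⊓ O b ⊓ O c) (inf_le_inf_right (O c) inf_le_left)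
    have e2 := hres a b (O a ⊓ O b ⊓ O c) inf_le_left
    have e3 := hres b c (O a ⊓ O b ⊓ O c) (inf_le_inf_right (O c) inf_le_right)
    exact e1.symm.trans (e2.trans ((congrArg _ e3).trans (smul_smul _ _ _)))
  have hO : iSup O = ⊤ := top_le_iff.1 fun y _ => Opens.mem_iSup.2 ⟨y, hyO y⟩
  obtain ⟨M, t, hM, ht, htt⟩ := exists_invertible_of_cocycle O η hO hcoc
  refine ⟨M, inferInstance, fun V => ?_⟩
  let U : Y.Opens := h ⁻¹ᵁ V.1
  let U' : X.Opens := π ⁻¹ᵁ U
  have hLU : CohB1.IsAmple (L.restrict U'.ι) := hL.2 V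
  haveI : CompactSpace (U : Scheme.{u}) := isCompact_iff_compactSpace.1 (h.isCompact_preimage V.2.isCompact)
  refine ⟨isInvertible_restrict _ hM, inferInstanceAs (CompactSpace (U : Scheme.{u})), fun y => ?_⟩
  obtain ⟨_, ⟨W, hW, rfl⟩, hyW, hWU⟩ := Y.isBasis_affineOpens.exists_subset_of_mem_open y.2 U.isOpen
  obtain ⟨n, σ₀, hfib, hσW, -⟩ := AmpleEmb.exists_genLocus_finite hLU (Z := U'.ι ⁻¹' (π ⁻¹' {y.1}))
    ((π.finite_preimage_singleton y.1).preimage U'.ι.isOpenEmbedding.injective.injOn) (U := U'.ι ⁻¹ᵁ (π ⁻¹ᵁ W))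
    (fun z hz => (show π (U'.ι z) ∈ W from (show π (U'.ι z) = y.1 from hz).symm ▸ hyW))
  let σ := σ₀ ≫ (restrictPow U'.ι L (n + 1)).inv
  have hσ₀ : CohB1.genLocus _ σ = CohB1.genLocus _ σ₀ := genLocus_comp_iso σ₀ (restrictPow U'.ι L (n + 1)).symm
  let O' : Y → Y.Opens := fun a => O a ⊓ U
  have hle' : ∀ a, π ⁻¹ᵁ O' a ≤ U'.ι ''ᵁ ⊤ := fun a => by
    rw [U'.ι_image_top]
    exact π.preimage_mono inf_le_right
  have hs' : ∀ a, Gen (π ⁻¹ᵁ O' a) (L.presheaf.map (homOfLE (π.preimage_mono (inf_le_left : O' a ≤ O a))).op (s a)) :=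
    fun a => (hs a).res _
  have hcoef : ∀ a, ∃ c : Γ(X, π ⁻¹ᵁ O' a),
      c • powLoc (L.presheaf.map (homOfLE (π.preimage_mono (inf_le_left : O' a ≤ O a))).op (s a)) (n + 1) =
        (CohB1.tensorPow L (n + 1)).presheaf.map (homOfLE (hle' a)).op (sec σ) := fun a => by
    obtain ⟨c, hc⟩ := ((gen_powLoc (hs' a) (n + 1)) _ le_rfl).2
      ((CohB1.tensorPow L (n + 1)).presheaf.map (homOfLE (hle' a)).op (sec σ))
    simp only [ParaFLib.res_self] at hc
    exact ⟨c, hc⟩
  choose c hc using hcoef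
  have hcov : U ≤ iSup O' := fun z hz => Opens.mem_iSup.2 ⟨z, hyO z, hz⟩
  let F : TopCat.Sheaf Ab.{u} Y.carrier := ⟨(CohB1.tensorPow M (n + 1)).presheaf, (CohB1.tensorPow M (n + 1)).isSheaf⟩
  obtain ⟨τ, hτ, -⟩ := F.existsUnique_gluing' O' U (fun a => homOfLE inf_le_right) hcov
    (fun a => N.norm (O' a) (c a) • powLoc (M.presheaf.map (homOfLE (inf_le_left : O' a ≤ O a)).op (t a)) (n + 1))
    (fun a b => by
      show (CohB1.tensorPow M (n + 1)).presheaf.map (homOfLE (inf_le_left : O' a ⊓ O' b ≤ O' a)).op _ =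
        (CohB1.tensorPow M (n + 1)).presheaf.map (homOfLE (inf_le_right : O' a ⊓ O' b ≤ O' b)).op _
      have hA : O' a ⊓ O' b ≤ O a ⊓ O b := inf_le_inf inf_le_left inf_le_left
      have ett : M.presheaf.map (homOfLE (hA.trans inf_le_left)).op (t a) =
          Y.presheaf.map (homOfLE hA).op (η a b : Γ(Y, O a ⊓ O b)) •
            M.presheaf.map (homOfLE (hA.trans inf_le_right)).op (t b) := by
        have := congrArg (M.presheaf.map (homOfLE hA).op) (htt a b)
        rwa [M.map_smul, ParaFLib.res_res, ParaFLib.res_res] at this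
      rw [Scheme.Modules.map_smul, Scheme.Modules.map_smul, powLoc_res, powLoc_res, ParaFLib.res_res,
        ParaFLib.res_res, ett, powLoc_smul, smul_smul]
      refine congrArg (· • powLoc (M.presheaf.map (homOfLE (hA.trans inf_le_right)).op (t b)) (n + 1)) ?_
      simp only [η, Units.coe_map]
      rw [norm_res' N, norm_res' N, norm_res' N, ← map_pow, ← map_mul]
      refine congrArg _ (((gen_powLoc ((hs b).res (π.preimage_mono (hA.trans inf_le_right))) (n + 1)) _ le_rfl).1 ?_)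
      show _ • _ = _ • _
      simp only [ParaFLib.res_self]
      have e1 := congrArg ((CohB1.tensorPow L (n + 1)).presheaf.map
        (homOfLE (π.preimage_mono (inf_le_left : O' a ⊓ O' b ≤ O' a))).op) (hc a)
      have e2 := congrArg ((CohB1.tensorPow L (n + 1)).presheaf.map
        (homOfLE (π.preimage_mono (inf_le_right : O' a ⊓ O' b ≤ O' b))).op) (hc b)
      rw [Scheme.Modules.map_smul, powLoc_res, ParaFLib.res_res, ParaFLib.res_res] at e1 e2
      rw [hres a b _ hA, powLoc_smul, smul_smul] at e1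
      exact e1.trans e2.symm)
  let t' := secHom ((CohB1.tensorPow M (n + 1)).restrict U.ι)
    ((CohB1.tensorPow M (n + 1)).presheaf.map (homOfLE U.ι_image_top.le).op τ)
  have hle : ∀ a, O' a ≤ U.ι ''ᵁ ⊤ := fun a => by rw [U.ι_image_top]; exact inf_le_right
  have hloc : ∀ a, U.ι ''ᵁ CohB1.genLocus _ t' ⊓ O' a = Y.basicOpen (N.norm (O' a) (c a)) := fun a =>
    image_genLocus_inf_eq_basicOpen (isInvertible_tensorPow hM (n + 1)) t' (hle a)
      (gen_powLoc ((ht a).res inf_le_left) (n + 1)) (by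
        rw [show sec t' = (CohB1.tensorPow M (n + 1)).presheaf.map (homOfLE U.ι_image_top.le).op τ from sec_secHom _]
        erw [ParaFLib.res_res]
        exact (hτ a).symm)
  have hσ : ∀ a, U'.ι ''ᵁ CohB1.genLocus _ σ ⊓ π ⁻¹ᵁ O' a = X.basicOpen (c a) := fun a =>
    image_genLocus_inf_eq_basicOpen (isInvertible_tensorPow hLi (n + 1)) σ (hle' a) (gen_powLoc (hs' a) (n + 1)) (hc a)
  have hyU' : y.1 ∈ O' y.1 := ⟨hyO y.1, y.2⟩
  have hy : y.1 ∈ U.ι ''ᵁ CohB1.genLocus _ t' := ((hloc y.1).ge (mem_basicOpen_norm N (c y.1) hyU' fun z hz => by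
    have hzO : π z ∈ O' y.1 := (show π z = y.1 from hz).symm ▸ hyU'
    exact (hσ y.1).le ⟨⟨⟨z, hzO.2⟩, hσ₀.ge (hfib hz), rfl⟩, hzO⟩)).1
  have hsub : U.ι ''ᵁ CohB1.genLocus _ t' ≤ W := fun w hw => by
    have hwU : w ∈ U := by
      obtain ⟨w', -, rfl⟩ := hw
      exact w'.2
    obtain ⟨z, rfl⟩ := π.surjective w
    obtain ⟨z', hz', hzz⟩ := ((hσ (π z)).ge (mem_basicOpen_of_norm N (c (π z))
      ((hloc (π z)).le ⟨hw, hyO _, hwU⟩))).1
    have := hσW (hσ₀.le hz')
    exact hzz ▸ this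
  refine ⟨n, t' ≫ (restrictPow U.ι M (n + 1)).hom, ?_⟩
  rw [genLocus_comp_iso]
  obtain ⟨y', hy', hyy⟩ := hy
  refine ⟨(Subtype.ext hyy : y' = y) ▸ hy', ?_⟩
  have hWU' : IsAffineOpen (U.ι ⁻¹ᵁ W) := by
    rw [← U.ι.isAffineOpen_iff_of_isOpenImmersion, Scheme.Hom.image_preimage_eq_opensRange_inf,
      Scheme.Opens.opensRange_ι, inf_eq_right.2 (show W ≤ U from hWU)]
    exact hW
  have h2 := isAffineOpen_inf_genLocus (isInvertible_restrict U.ι (isInvertible_tensorPow hM (n + 1))) t' hWU'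
  have h3 : CohB1.genLocus _ t' ≤ U.ι ⁻¹ᵁ W := fun w hw => hsub ⟨w, hw, rfl⟩
  rwa [inf_eq_left.2 h3] at h2

end Groth.Agent.QuotAmpleLib
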